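import Groth.Agent.GrpQ.H767.QuasiSection
import Groth.Agent.GrpQ.H766.GeomQuot
import Groth.Agent.Grpsch.GrpdPt

/-!
# Geometric quotients along a quasi-section

Let `G = (U, R, s, t, c)` be a groupoid scheme, `g : U' ⟶ U` a morphism such that
`sV : V = R ×_{t, U} U' ⟶ U` is flat and surjective. If `p : U ⟶ Y` coequalizes `(t, s)` and `g ≫ p` is a
geometric quotient of the restricted groupoid, then `p` is a geometric quotient of `G`. If `sV` is moreover
quasi-compact, every geometric quotient `q : U' ⟶ Y` of the restricted groupoid is of the form `g ≫ p`.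
-/

set_option autoImplicit false
universe u

open CategoryTheory CategoryTheory.Limits AlgebraicGeometry TopologicalSpace

namespace Groth.Agent.GrpQ.H767.GeomQuotExt

open Groth.Agent.Grpsch.Points Groth.Agent.Grpsch.Restrict Groth.Agent.GrpQ.H767.QuasiSection
open Groth.Agent.GrpQ.H766.GeomQuotDef

theorem stalkMap_injective {X Y : Scheme.{u}} (f : X ⟶ Y) [Flat f] (x : X) :
    Function.Injective (f.stalkMap x) := by
  have h1 : (f.stalkMap x).hom.Flat := Flat.stalkMap f x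
  algebraize [(f.stalkMap x).hom]
  have : Module.FaithfullyFlat (Y.presheaf.stalk (f x)) (X.presheaf.stalk x) :=
    @Module.FaithfullyFlat.of_flat_of_isLocalHom _ _ _ _ _ _ _
      (Flat.stalkMap f x) (f.toLRSHom.prop x)
  exact ‹RingHom.FaithfullyFlat _›.injective

/-- pullback of sections along a flat surjective morphism is injective -/
theorem app_injective {X Y : Scheme.{u}} (f : X ⟶ Y) [Flat f] [Surjective f] (O : Y.Opens) :
    Function.Injective (f.app O) := by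
  intro a b hab
  apply TopCat.Presheaf.section_ext Y.sheaf O a b
  intro y hy
  obtain ⟨x, rfl⟩ := f.surjective y
  apply stalkMap_injective f x
  have h1 := Scheme.Hom.germ_stalkMap_apply f O x hy a
  have h2 := Scheme.Hom.germ_stalkMap_apply f O x hy b
  refine h1.trans (Eq.trans ?_ h2.symm)
  rw [hab]

variable {S : Scheme.{u}} (G : Grpd.GroupoidScheme S) {U' : Scheme.{u}} (g : U' ⟶ G.U)
variable {Y : Scheme.{u}} (p : G.U ⟶ Y) (w : G.t ≫ p = G.s ≫ p)

/-- two invariant sections which agree on `U'` are equal -/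
theorem eq_of_app_eq [Flat (sV G g)] [Surjective (sV G g)] (O : G.U.Opens)
    (hO : G.s ⁻¹ᵁ O = G.t ⁻¹ᵁ O) (a b : Γ(G.U, O)) (ha : InvSec G.s G.t O a)
    (hb : InvSec G.s G.t O b) (hab : g.app O a = g.app O b) : a = b := by
  apply app_injective (sV G g) O
  have key : ∀ c : Γ(G.U, O), InvSec G.s G.t O c →
      (sV G g).app O c = (pullback.snd G.t g).appLE (g ⁻¹ᵁ O) (sV G g ⁻¹ᵁ O) (by
        rw [← Scheme.Hom.comp_preimage, ← pullback.condition, Scheme.Hom.comp_preimage,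
          Scheme.Hom.comp_preimage, hO]) (g.app O c) := by
    intro c hc
    have h0 : (sV G g) ⁻¹ᵁ O ≤ (pullback.fst G.t g) ⁻¹ᵁ (G.s ⁻¹ᵁ O ⊓ G.t ⁻¹ᵁ O) := by
      rw [← hO, inf_idem, Scheme.Hom.comp_preimage]
    have h1 : (sV G g).app O c = (pullback.fst G.t g).appLE (G.s ⁻¹ᵁ O ⊓ G.t ⁻¹ᵁ O)
        (sV G g ⁻¹ᵁ O) h0 (G.s.appLE O (G.s ⁻¹ᵁ O ⊓ G.t ⁻¹ᵁ O) inf_le_left c) := by
      rw [← CommRingCat.comp_apply, Scheme.Hom.appLE_comp_appLE, Scheme.Hom.appLE_eq_app]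
    have h2 : G.s.appLE O (G.s ⁻¹ᵁ O ⊓ G.t ⁻¹ᵁ O) inf_le_left c =
      G.t.appLE O (G.s ⁻¹ᵁ O ⊓ G.t ⁻¹ᵁ O) inf_le_right c := hc
    rw [h1, h2, ← CommRingCat.comp_apply, Scheme.Hom.appLE_comp_appLE, ← CommRingCat.comp_apply,
      ← Scheme.Hom.appLE_eq_app, Scheme.Hom.appLE_comp_appLE]
    congr 2
    congr 1
    exact pullback.condition
  rw [key a ha, key b hb, hab]

/-- an invariant section restricts to an invariant section on `U'`. -/
theorem invSec_app (O : G.U.Opens) (a : Γ(G.U, O)) (ha : InvSec G.s G.t O a) :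
    InvSec (src G g) (tgt G g) (g ⁻¹ᵁ O) (g.app O a) := by
  have h0 : src G g ⁻¹ᵁ g ⁻¹ᵁ O = toR G g ⁻¹ᵁ G.s ⁻¹ᵁ O := by
    rw [← Scheme.Hom.comp_preimage, ← toR_s, Scheme.Hom.comp_preimage]
  have h1 : tgt G g ⁻¹ᵁ g ⁻¹ᵁ O = toR G g ⁻¹ᵁ G.t ⁻¹ᵁ O := by
    rw [← Scheme.Hom.comp_preimage, ← toR_t, Scheme.Hom.comp_preimage]
  have hN : src G g ⁻¹ᵁ g ⁻¹ᵁ O ⊓ tgt G g ⁻¹ᵁ g ⁻¹ᵁ O ≤
      toR G g ⁻¹ᵁ (G.s ⁻¹ᵁ O ⊓ G.t ⁻¹ᵁ O) := by
    rw [h0, h1, Scheme.Hom.preimage_inf]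
  have h2 := congrArg ((toR G g).appLE _ _ hN) ha
  rw [← CommRingCat.comp_apply, ← CommRingCat.comp_apply, Scheme.Hom.appLE_comp_appLE,
    Scheme.Hom.appLE_comp_appLE] at h2
  rw [InvSec, ← CommRingCat.comp_apply, ← CommRingCat.comp_apply, ← Scheme.Hom.appLE_eq_app,
    Scheme.Hom.appLE_comp_appLE, Scheme.Hom.appLE_comp_appLE]
  have e1 : (src G g ≫ g).appLE O (src G g ⁻¹ᵁ g ⁻¹ᵁ O ⊓ tgt G g ⁻¹ᵁ g ⁻¹ᵁ O)
      (by rw [Scheme.Hom.comp_preimage]; exact inf_le_left) =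
      (toR G g ≫ G.s).appLE O (src G g ⁻¹ᵁ g ⁻¹ᵁ O ⊓ tgt G g ⁻¹ᵁ g ⁻¹ᵁ O)
      (by rw [Scheme.Hom.comp_preimage, ← h0]; exact inf_le_left) := by
    congr 1
    exact (toR_s G g).symm
  have e2 : (tgt G g ≫ g).appLE O (src G g ⁻¹ᵁ g ⁻¹ᵁ O ⊓ tgt G g ⁻¹ᵁ g ⁻¹ᵁ O)
      (by rw [Scheme.Hom.comp_preimage]; exact inf_le_right) =
      (toR G g ≫ G.t).appLE O (src G g ⁻¹ᵁ g ⁻¹ᵁ O ⊓ tgt G g ⁻¹ᵁ g ⁻¹ᵁ O)
      (by rw [Scheme.Hom.comp_preimage, ← h1]; exact inf_le_right) := by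
    congr 1
    exact (toR_t G g).symm
  rw [e1, e2]
  exact h2

include w in
lemma preimage_eq (W : Y.Opens) : G.s ⁻¹ᵁ p ⁻¹ᵁ W = G.t ⁻¹ᵁ p ⁻¹ᵁ W := by
  rw [← Scheme.Hom.comp_preimage, ← w, Scheme.Hom.comp_preimage]

include w in
/-- **Geometric quotients along a quasi-section.** -/
theorem isGeomQuot [Flat (sV G g)] [Surjective (sV G g)]
    (hq : IsGeomQuot (src G g) (tgt G g) (g ≫ p)) : IsGeomQuot G.s G.t p where
  w := w
  isQuotientMap := by
    have h1 : Topology.IsQuotientMap (p ∘ g) := by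
      have := hq.isQuotientMap
      rwa [Scheme.Hom.comp_base, TopCat.coe_comp] at this
    exact Topology.IsQuotientMap.of_comp g.continuous p.continuous h1
  rel x y hxy := by
    have hE := Groth.Agent.Grpsch.GrpdPt.isPtEquiv G
    obtain ⟨v, hv⟩ := (sV G g).surjective x
    obtain ⟨v', hv'⟩ := (sV G g).surjective y
    have hv1 : G.s (pullback.fst G.t g v) = x := by
      rw [← hv, ← Scheme.Hom.comp_apply]
    have hv2 : G.s (pullback.fst G.t g v') = y := by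
      rw [← hv', ← Scheme.Hom.comp_apply]
    have hp1 : p x = p (g (pullback.snd G.t g v)) := by
      rw [← hv, ← Scheme.Hom.comp_apply, ← Scheme.Hom.comp_apply, ← Scheme.Hom.comp_apply,
        sV, Category.assoc, ← w, pullback.condition_assoc]
    have hp2 : p y = p (g (pullback.snd G.t g v')) := by
      rw [← hv', ← Scheme.Hom.comp_apply, ← Scheme.Hom.comp_apply, ← Scheme.Hom.comp_apply,
        sV, Category.assoc, ← w, pullback.condition_assoc]
    obtain ⟨r, hr1, hr2⟩ := hq.rel (pullback.snd G.t g v) (pullback.snd G.t g v') (by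
      rw [Scheme.Hom.comp_apply, Scheme.Hom.comp_apply, ← hp1, ← hp2, hxy])
    have a1 : G.t (pullback.fst G.t g v) = g (pullback.snd G.t g v) := by
      rw [← Scheme.Hom.comp_apply, pullback.condition, Scheme.Hom.comp_apply]
    have a2 : G.t (pullback.fst G.t g v') = g (pullback.snd G.t g v') := by
      rw [← Scheme.Hom.comp_apply, pullback.condition, Scheme.Hom.comp_apply]
    have b1 : G.t (toR G g r) = g (pullback.snd G.t g v) := by
      rw [← Scheme.Hom.comp_apply, toR_t, Scheme.Hom.comp_apply, hr1]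
    have b2 : G.s (toR G g r) = g (pullback.snd G.t g v') := by
      rw [← Scheme.Hom.comp_apply, toR_s, Scheme.Hom.comp_apply, hr2]
    obtain ⟨r1, c1, c1'⟩ := hE.symm (pullback.fst G.t g v)
    obtain ⟨r2, c2, c2'⟩ := hE.trans (toR G g r) (pullback.fst G.t g v') (by rw [b2, a2])
    obtain ⟨r3, c3, c3'⟩ := hE.trans r1 r2 (by rw [c1, c2', a1, b1])
    exact ⟨r3, by rw [c3', c1', hv1], by rw [c3, c2, hv2]⟩
  inj W := by
    intro a b hab
    apply hq.inj W
    change g.app _ (p.app W a) = g.app _ (p.app W b)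
    rw [hab]
  sec W f hf := by
    obtain ⟨b, hb⟩ := hq.sec W (g.app _ f) (invSec_app G g _ f hf)
    refine ⟨b, ?_⟩
    refine eq_of_app_eq G g (p ⁻¹ᵁ W) (preimage_eq G p w W) _ _ ?_ hf ?_
    · have := invSec_appLE p w W (p ⁻¹ᵁ W) le_rfl b
      rwa [Scheme.Hom.appLE_eq_app] at this
    · rw [← hb]
      rfl

/-- Every geometric quotient of the restricted groupoid extends along a quasi-section. -/
theorem exists_isGeomQuot [Flat (sV G g)] [Surjective (sV G g)] [QuasiCompact (sV G g)]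
    (q : U' ⟶ Y) (hq : IsGeomQuot (src G g) (tgt G g) q) :
    ∃ p : G.U ⟶ Y, g ≫ p = q ∧ IsGeomQuot G.s G.t p := by
  have hp := g_desc G g q hq.w
  refine ⟨desc G g q hq.w, hp, isGeomQuot G g _ (t_desc G g q hq.w) ?_⟩
  rw [hp]
  exact hq

end Groth.Agent.GrpQ.H767.GeomQuotExt
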