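import Groth.Agent.GrpQ.H767.Local
import Groth.Agent.Sga3.H775.ArtinTate
import Groth.Agent.Sga3.H771.QcDesc
import Groth.Agent.S4091

/-!
# Gluing quotients along local quasi-sections

`LocQS G`: every point of `U` has a saturated open neighbourhood `W` and a morphism `z : Z ⟶ U`, locally of
finite type, such that `R ×_{t,U} Z ⟶ U` is finite locally free and surjective over `W`, and sets of pairwise
equivalent points of `z⁻¹ W` lie in affine opens of `z⁻¹ W`. Then `G` has a geometric quotient with all the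
expected properties.
-/

set_option autoImplicit false
universe u

open CategoryTheory CategoryTheory.Limits AlgebraicGeometry TopologicalSpace

namespace Groth.Agent.GrpQ.H767.Global

open Groth.Agent.Grpsch.Points Groth.Agent.Grpsch.Restrict Groth.Agent.GrpQ.H767.QuasiSection
open Groth.Agent.GrpQ.H766.GeomQuotDef Groth.Agent.GrpQ.H766.AffineCase Groth.Agent.Grpsch.PtRestrict
open Groth.Agent.GrpQ.H765.GlueProps Groth.Agent.GrpQ.H767.Local

variable {S : Scheme.{u}} (G : Grpd.GroupoidScheme S)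

/-- local quasi-sections -/
def LocQS : Prop := ∀ x : G.U, ∃ (W : G.U.Opens) (Z : Scheme.{u}) (z : Z ⟶ G.U), x ∈ W ∧
  G.s ⁻¹ᵁ W = G.t ⁻¹ᵁ W ∧ LocallyOfFiniteType z ∧
  Mor2.IsFinLocFree ((pullback.fst G.t z ≫ G.s) ∣_ W) ∧ Surjective ((pullback.fst G.t z ≫ G.s) ∣_ W) ∧
  ∀ E : Set Z, (∀ x ∈ E, z x ∈ W) →
      (∀ x ∈ E, ∀ y ∈ E, ∃ r : G.R, G.t r = z x ∧ G.s r = z y) →
      ∃ O : Z.Opens, IsAffineOpen O ∧ E ⊆ (O : Set Z) ∧ O ≤ z ⁻¹ᵁ W

variable {G}

/-- The geometric quotient together with its local structure. -/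
structure Glued {Y : Scheme.{u}} (p : G.U ⟶ Y) : Prop where
  geom : IsGeomQuot G.s G.t p
  loc : ∀ x : G.U, ∃ (W : G.U.Opens) (hW : G.s ⁻¹ᵁ W = G.t ⁻¹ᵁ W) (Z : Scheme.{u}) (z : Z ⟶ G.U)
    (Y' : Scheme.{u}) (p' : W.toScheme ⟶ Y') (j : Y' ⟶ Y), x ∈ W ∧ LocallyOfFiniteType z ∧
    LQ G W hW (z ∣_ W) p' ∧ ∃ _ : IsOpenImmersion j, p' ≫ j = W.ι ≫ p ∧ p ⁻¹ᵁ j.opensRange = W

theorem exists_glued (H : LocQS G) : ∃ (Y : Scheme.{u}) (p : G.U ⟶ Y), Glued p := by
  choose W Z z hxW hW hz h1 h2 h3 using H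
  choose Y' p' hLQ using fun x => exists_LQ G (W x) (hW x) (z x) (h1 x) (h2 x) (h3 x)
  have HH : LocallyGood G.s G.t (fun _ _ _ _ => True) := fun x =>
    ⟨W x, hW x, Y' x, p' x, hxW x, (hLQ x).geom, trivial⟩
  obtain ⟨Y, p, h⟩ := HH.exists_isGeomQuot
  refine ⟨Y, p, h, fun x => ?_⟩
  obtain ⟨j, hj, hj1, hj2⟩ := exists_openImmersion h (W x) (hW x) (hLQ x).geom
  exact ⟨W x, hW x, Z x, z x, Y' x, p' x, j, hxW x, hz x, hLQ x, hj, hj1, hj2⟩

namespace Glued

variable {Y : Scheme.{u}} {p : G.U ⟶ Y} (h : Glued p)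

include h

theorem surjective : Surjective p := ⟨h.geom.surjective⟩

theorem universallyClosed (ht : UniversallyClosed G.t) : UniversallyClosed p := by
  refine of_local @UniversallyClosed h.geom fun x => ?_
  obtain ⟨W, hW, Z, z, Y', p', j, hx, hz, hLQ, hj, hj1, hj2⟩ := h.loc x
  exact ⟨W, hW, Y', p', hx, hLQ.geom, hLQ.uc ht⟩

theorem flat (hm : Mono G.j) (ht : Flat G.t) : Flat p := by
  refine of_local @Flat h.geom fun x => ?_
  obtain ⟨W, hW, Z, z, Y', p', j, hx, hz, hLQ, hj, hj1, hj2⟩ := h.loc x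
  exact ⟨W, hW, Y', p', hx, hLQ.geom, hLQ.flat hm ht⟩

theorem isPullback (hm : Mono G.j) : IsPullback G.t G.s p p := by
  refine isPullback_of_local h.geom fun x => ?_
  obtain ⟨W, hW, Z, z, Y', p', j, hx, hz, hLQ, hj, hj1, hj2⟩ := h.loc x
  exact ⟨W, hW, Y', p', hx, hLQ.geom, hLQ.pb hm⟩

theorem surjective_lift : Function.Surjective (pullback.lift G.t G.s h.geom.w) := by
  refine surjective_lift_of_local h.geom fun x => ?_
  obtain ⟨W, hW, Z, z, Y', p', j, hx, hz, hLQ, hj, hj1, hj2⟩ := h.loc x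
  exact ⟨W, hW, Y', p', hx, hLQ.geom, hLQ.lift⟩

theorem isOpenMap (ht : IsOpenMap G.t) : IsOpenMap p := isOpenMap_of_isOpenMap h.geom ht

/-- the structure morphism of the quotient is locally of finite type over a locally Noetherian base. -/
theorem locallyOfFiniteType [IsLocallyNoetherian S] [LocallyOfFiniteType G.pU] (q : Y ⟶ S)
    (hq : p ≫ q = G.pU) : LocallyOfFiniteType q := by
  choose W hW Z z Y' p' j hx hz hLQ hj hj1 hj2 using h.loc
  let 𝒰 : Y.OpenCover :=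
    { I₀ := G.U
      X := Y'
      f := j
      mem₀ := by
        rw [Scheme.presieve₀_mem_precoverage_iff]
        refine ⟨fun y => ?_, fun x => hj x⟩
        obtain ⟨x, rfl⟩ := h.geom.surjective y
        have h1 : x ∈ p ⁻¹ᵁ (j x).opensRange := by rw [hj2]; exact hx x
        exact ⟨x, h1⟩ }
  rw [IsZariskiLocalAtSource.iff_of_openCover (P := @LocallyOfFiniteType) 𝒰]
  intro x
  have hz := hz x
  have h1 := (hLQ x).integral
  have e : ((z x ∣_ W x) ≫ p' x) ≫ j x ≫ q = (z x ⁻¹ᵁ W x).ι ≫ z x ≫ G.pU := by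
    rw [Category.assoc, reassoc_of% (hj1 x), hq, ← Category.assoc, morphismRestrict_ι,
      Category.assoc]
  have h2 : LocallyOfFiniteType (((z x ∣_ W x) ≫ p' x) ≫ j x ≫ q) := by
    rw [e]; infer_instance
  exact Groth.Agent.Sga3.H775.ArtinTate.locallyOfFiniteType_of_isIntegralHom
    ((z x ∣_ W x) ≫ p' x) (j x ≫ q) (fun O _ => (hLQ x).inj O)

end Glued

end Groth.Agent.GrpQ.H767.Global
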