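import Groth.Agent.GrpQ.H767.Global
import Groth.Agent.Dix.ProjProper
import Groth.Agent.S0114
import Mathlib.AlgebraicGeometry.Morphisms.Proper
import Mathlib.AlgebraicGeometry.Morphisms.Immersion
import Mathlib.AlgebraicGeometry.Morphisms.LocalFlatDescent
import Mathlib.AlgebraicGeometry.Morphisms.QuasiFinite

/-!
# S4088 and S4090 from local quasi-sections
-/

set_option autoImplicit false
universe u

open CategoryTheory CategoryTheory.Limits AlgebraicGeometry TopologicalSpace

namespace Groth.Agent.GrpQ.H767.GlobalB

open Groth.Agent.Grpsch.Points Groth.Agent.Grpsch.Restrict Groth.Agent.GrpQ.H767.QuasiSection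
open Groth.Agent.GrpQ.H766.GeomQuotDef Groth.Agent.GrpQ.H766.AffineCase Groth.Agent.Grpsch.PtRestrict
open Groth.Agent.GrpQ.H765.GlueProps Groth.Agent.GrpQ.H767.Local Groth.Agent.GrpQ.H767.Global

variable {S : Scheme.{u}} {G : Grpd.GroupoidScheme S} {Y : Scheme.{u}} {p : G.U ⟶ Y}

/-- the quotient is separated over `S` if `j` has closed image and `p` is universally closed. -/
theorem isSeparated (w : G.t ≫ p = G.s ≫ p) (q : Y ⟶ S) (hq : p ≫ q = G.pU)
    (hps : Surjective p) (hp : UniversallyClosed p) (hj : IsClosed (Set.range G.j)) :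
    IsSeparated q := by
  refine ⟨.of_isPreimmersion _ ?_⟩
  let m : pullback G.pU G.pU ⟶ pullback q q := pullback.map _ _ _ _ p p (𝟙 S)
    ((Category.comp_id _).trans hq.symm) ((Category.comp_id _).trans hq.symm)
  have hm : UniversallyClosed m :=
    MorphismProperty.pullbackMap (P := @UniversallyClosed) hp hp hq.symm hq.symm
  have h1 : Set.range (pullback.diagonal q) = m '' (Set.range G.j) := by
    apply Set.Subset.antisymm
    · rintro _ ⟨y, rfl⟩
      obtain ⟨x, rfl⟩ := p.surjective y
      refine ⟨G.j (G.e x), ⟨_, rfl⟩, ?_⟩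
      have h2 : G.e ≫ G.j ≫ m = p ≫ pullback.diagonal q := by
        apply pullback.hom_ext
        · simp only [m, pullback.map, Category.assoc, pullback.lift_fst, pullback.diagonal_fst,
            Category.comp_id]
          rw [j_fst_assoc, reassoc_of% (e_t G)]
        · simp only [m, pullback.map, Category.assoc, pullback.lift_snd, pullback.diagonal_snd,
            Category.comp_id]
          rw [j_snd_assoc, reassoc_of% (e_s G)]
      rw [← Scheme.Hom.comp_apply, ← Scheme.Hom.comp_apply, h2, Scheme.Hom.comp_apply]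
    · rintro _ ⟨_, ⟨r, rfl⟩, rfl⟩
      refine ⟨p (G.t r), ?_⟩
      have h2 : G.j ≫ m = G.t ≫ p ≫ pullback.diagonal q := by
        apply pullback.hom_ext
        · simp only [m, pullback.map, Category.assoc, pullback.lift_fst, pullback.diagonal_fst,
            Category.comp_id]
          rw [j_fst_assoc]
        · simp only [m, pullback.map, Category.assoc, pullback.lift_snd, pullback.diagonal_snd,
            Category.comp_id]
          rw [j_snd_assoc, w]
      rw [← Scheme.Hom.comp_apply, ← Scheme.Hom.comp_apply, ← Scheme.Hom.comp_apply, h2]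
  rw [h1]
  exact m.isClosedMap _ hj

/-- **S4088 from local quasi-sections.** -/
theorem s4088 [IsLocallyNoetherian S] (H : LocQS G)
    [IsProper G.s] [Flat G.s] (n : ℕ) (e : G.U ⟶ CohB1.ProjSpaceOver n S) [IsImmersion e]
    (he : e ≫ CohB1.ProjSpaceOver.toBase n S = G.pU) :
    ∃ (Y : Scheme.{u}) (p : G.U ⟶ Y) (w : G.t ≫ p = G.s ≫ p) (q : Y ⟶ S),
      Nonempty (IsColimit (Cofork.ofπ p w)) ∧ p ≫ q = G.pU ∧ Surjective p ∧ IsOpenMap p.base ∧ IsProper p ∧
      LocallyOfFinitePresentation p ∧ IsSeparated q ∧ LocallyOfFinitePresentation q ∧ QuasiCompact q ∧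
      Function.Surjective (pullback.lift G.t G.s w).base ∧
      (Mono G.j → IsPullback G.t G.s p p ∧ Flat p) := by
  have htb := Groth.Agent.Dix.ProjProper.isProper_toBase n S
  have hPn : IsLocallyNoetherian (CohB1.ProjSpaceOver n S) :=
    LocallyOfFiniteType.isLocallyNoetherian (CohB1.ProjSpaceOver.toBase n S)
  have heft : LocallyOfFiniteType e := inferInstance
  have heqc : QuasiCompact e := by
    rw [← Scheme.Hom.liftCoborder_ι e]; infer_instance
  have hsep : IsSeparated G.pU := by rw [← he]; infer_instance
  have hlft : LocallyOfFiniteType G.pU := by rw [← he]; infer_instance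
  have hqc : QuasiCompact G.pU := by rw [← he]; infer_instance
  have hU : IsLocallyNoetherian G.U := LocallyOfFiniteType.isLocallyNoetherian G.pU
  have hii := isIso_i G
  have htp : IsProper G.t := by rw [← G.i_s]; infer_instance
  have htf : Flat G.t := by rw [← G.i_s]; infer_instance
  have htfp : LocallyOfFinitePresentation G.t := inferInstance
  have hjc : UniversallyClosed G.j := by
    have : UniversallyClosed (G.j ≫ pullback.snd G.pU G.pU) := by rw [j_snd]; infer_instance
    exact UniversallyClosed.of_comp_of_isSeparated G.j (pullback.snd G.pU G.pU)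
  obtain ⟨Y, p, h⟩ := exists_glued H
  obtain ⟨q, hq, -⟩ := h.geom.existsUnique_desc G.pU (by rw [G.t_over, G.s_over])
  have hps : Surjective p := h.surjective
  have hpc : UniversallyClosed p := h.universallyClosed inferInstance
  have hql : LocallyOfFiniteType q := h.locallyOfFiniteType q hq
  have hY : IsLocallyNoetherian Y := LocallyOfFiniteType.isLocallyNoetherian q
  have hplt : LocallyOfFiniteType p := by
    have : LocallyOfFiniteType (p ≫ q) := by rw [hq]; infer_instance
    exact locallyOfFiniteType_of_comp p q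
  have hpsep : IsSeparated p := by
    have : IsSeparated (p ≫ q) := by rw [hq]; infer_instance
    exact IsSeparated.of_comp p q
  have hqqc : QuasiCompact q := by
    have : QuasiCompact (p ≫ q) := by rw [hq]; infer_instance
    exact Groth.Agent.Sga3.H771.QcDesc.quasiCompact_of_surjective_comp p q
  refine ⟨Y, p, h.geom.w, q, h.geom.nonempty_isColimit, hq, hps, h.isOpenMap G.t.isOpenMap,
    ?_, inferInstance, isSeparated h.geom.w q hq hps hpc G.j.isClosedMap.isClosed_range,
    inferInstance, hqqc, h.surjective_lift, fun hm => ⟨h.isPullback hm, h.flat hm htf⟩⟩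
  exact ⟨⟩

/-- **S4090 from local quasi-sections.** -/
theorem s4090 (H : LocQS G)
    [LocallyOfFinitePresentation G.pU] [QuasiCompact G.pU] [QuasiSeparated G.pU]
    (n : ℕ) (e : G.U ⟶ CohB1.ProjSpaceOver n S) [IsImmersion e]
    (he : e ≫ CohB1.ProjSpaceOver.toBase n S = G.pU)
    [IsProper G.s] [Flat G.s] [LocallyOfFinitePresentation G.s] :
    ∃ (Y : Scheme.{u}) (p : G.U ⟶ Y) (w : G.t ≫ p = G.s ≫ p) (q : Y ⟶ S),
      Nonempty (IsColimit (Cofork.ofπ p w)) ∧ p ≫ q = G.pU ∧ Surjective p ∧ IsOpenMap p.base ∧ UniversallyClosed p ∧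
      Function.Surjective (pullback.lift G.t G.s w).base ∧
      (Mono G.j → IsPullback G.t G.s p p ∧ Flat p ∧ LocallyOfFinitePresentation p ∧ QuasiCompact p ∧ QuasiSeparated p ∧
        LocallyOfFinitePresentation q ∧ QuasiCompact q ∧ QuasiSeparated q) := by
  have htb := Groth.Agent.Dix.ProjProper.isProper_toBase n S
  have hsep : IsSeparated G.pU := by rw [← he]; infer_instance
  have hii := isIso_i G
  have htp : IsProper G.t := by rw [← G.i_s]; infer_instance
  have htf : Flat G.t := by rw [← G.i_s]; infer_instance
  have htfp : LocallyOfFinitePresentation G.t := by rw [← G.i_s]; infer_instance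
  have hjc : UniversallyClosed G.j := by
    have : UniversallyClosed (G.j ≫ pullback.snd G.pU G.pU) := by rw [j_snd]; infer_instance
    exact UniversallyClosed.of_comp_of_isSeparated G.j (pullback.snd G.pU G.pU)
  obtain ⟨Y, p, h⟩ := exists_glued H
  obtain ⟨q, hq, -⟩ := h.geom.existsUnique_desc G.pU (by rw [G.t_over, G.s_over])
  have hps : Surjective p := h.surjective
  have hpc : UniversallyClosed p := h.universallyClosed inferInstance
  have hqsep : IsSeparated q :=
    isSeparated h.geom.w q hq hps hpc G.j.isClosedMap.isClosed_range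
  have hpqc : QuasiCompact p := by
    have : QuasiCompact (p ≫ q) := by rw [hq]; infer_instance
    exact QuasiCompact.of_comp p q
  have hpsep : IsSeparated p := by
    have : IsSeparated (p ≫ q) := by rw [hq]; infer_instance
    exact IsSeparated.of_comp p q
  have hqqc : QuasiCompact q := by
    have : QuasiCompact (p ≫ q) := by rw [hq]; infer_instance
    exact Groth.Agent.Sga3.H771.QcDesc.quasiCompact_of_surjective_comp p q
  refine ⟨Y, p, h.geom.w, q, h.geom.nonempty_isColimit, hq, hps, h.isOpenMap G.t.isOpenMap,
    hpc, h.surjective_lift, fun hm => ?_⟩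
  have hpb := h.isPullback hm
  have hpf : Flat p := h.flat hm htf
  have hplfp : LocallyOfFinitePresentation p :=
    MorphismProperty.of_isPullback_of_descendsAlong (P := @LocallyOfFinitePresentation)
      (Q := @Surjective ⊓ @Flat ⊓ @QuasiCompact) hpb ⟨⟨hps, hpf⟩, hpqc⟩ htfp
  have hqlfp : LocallyOfFinitePresentation q := by
    have : LocallyOfFinitePresentation (p ≫ q) := by rw [hq]; infer_instance
    exact Groth.Agent.S0114.result p q
  exact ⟨hpb, hpf, hplfp, hpqc, inferInstance, hqlfp, hqqc, inferInstance⟩

end Groth.Agent.GrpQ.H767.GlobalB
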