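import Groth.Agent.GrpQ.H767.Global

/-!
# Local quasi-sections in terms of the restricted groupoids

`LocQSR G`: every point of `U` has a saturated open neighbourhood `W` such that the groupoid restricted to `W`
has a quasi-section `u : Z ⟶ W` as in S4087. Then `LocQS G`.
-/

set_option autoImplicit false
universe u

open CategoryTheory CategoryTheory.Limits AlgebraicGeometry TopologicalSpace

namespace Groth.Agent.GrpQ.H767.LocQSR

open Groth.Agent.Grpsch.Points Groth.Agent.Grpsch.Restrict Groth.Agent.GrpQ.H767.QuasiSection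
open Groth.Agent.GrpQ.H766.GeomQuotDef Groth.Agent.GrpQ.H766.AffineCase Groth.Agent.Grpsch.PtRestrict
open Groth.Agent.GrpQ.H765.GlueProps Groth.Agent.GrpQ.H767.Local Groth.Agent.GrpQ.H767.Global

variable {S : Scheme.{u}} (G : Grpd.GroupoidScheme S)

/-- local quasi-sections, in terms of the restricted groupoids -/
def LocQSR : Prop := ∀ x : G.U, ∃ (W : G.U.Opens) (_ : G.s ⁻¹ᵁ W = G.t ⁻¹ᵁ W) (Z : Scheme.{u})
  (u : Z ⟶ (restrict G W.ι).U), x ∈ W ∧ LocallyOfFiniteType u ∧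
  Mor2.IsFinLocFree (pullback.fst (restrict G W.ι).t u ≫ (restrict G W.ι).s) ∧
  Surjective (pullback.fst (restrict G W.ι).t u ≫ (restrict G W.ι).s) ∧
  ∀ E : Set Z, (∀ x ∈ E, ∀ y ∈ E, ∃ r : (restrict G W.ι).R, (restrict G W.ι).t r = u x ∧
      (restrict G W.ι).s r = u y) → ∃ O : Z.Opens, IsAffineOpen O ∧ E ⊆ (O : Set Z)

variable {G}

theorem prop_of_restrict (P : MorphismProperty Scheme.{u}) [P.RespectsIso]
    (W : G.U.Opens) (hW : G.s ⁻¹ᵁ W = G.t ⁻¹ᵁ W) {Z : Scheme.{u}} (u : Z ⟶ W.toScheme)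
    (h : P (pullback.fst (tgt G W.ι) u ≫ src G W.ι)) : P (sV G (u ≫ W.ι) ∣_ W) := by
  have h1 := isPullback_cmp G (u ≫ W.ι) W hW
  have h2 := isPullback_morphismRestrict (sV G (u ≫ W.ι)) W
  have he : (h2.flip.isoIsPullback _ _ h1).hom ≫ sV' G (u ≫ W.ι) W = (sV G (u ≫ W.ι) ∣_ W) :=
    IsPullback.isoIsPullback_hom_snd ..
  rw [← he, P.cancel_left_of_respectsIso]
  have htop : (u ≫ W.ι) ⁻¹ᵁ W = ⊤ := by
    rw [eq_top_iff]
    intro x _
    exact (u x).2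
  have hi : IsIso ((u ≫ W.ι) ⁻¹ᵁ W).ι := by
    refine isIso_of_isOpenImmersion_of_opensRange_eq_top _ ?_
    rw [Scheme.Opens.opensRange_ι, htop]
  have h3 : (u ≫ W.ι) ∣_ W = ((u ≫ W.ι) ⁻¹ᵁ W).ι ≫ u := by
    rw [← cancel_mono W.ι, morphismRestrict_ι, Category.assoc]
  have hmap : pullback.fst (tgt G W.ι) ((u ≫ W.ι) ∣_ W) =
      pullback.map (tgt G W.ι) ((u ≫ W.ι) ∣_ W) (tgt G W.ι) u (𝟙 _) ((u ≫ W.ι) ⁻¹ᵁ W).ι (𝟙 _)
        (by simp) (by rw [h3]; simp) ≫ pullback.fst (tgt G W.ι) u := by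
    rw [pullback.map, pullback.lift_fst, Category.comp_id]
  rw [sV', hmap, Category.assoc, P.cancel_left_of_respectsIso]
  exact h

theorem locQS_of_restrict (H : LocQSR G) : LocQS G := by
  intro x
  obtain ⟨W, hW, Z, u, hx, hu, ⟨a1, a2, a3⟩, hs, h2⟩ : ∃ (W : G.U.Opens)
    (_ : G.s ⁻¹ᵁ W = G.t ⁻¹ᵁ W) (Z : Scheme.{u})
    (u : Z ⟶ W.toScheme), x ∈ W ∧ LocallyOfFiniteType u ∧
    Mor2.IsFinLocFree (pullback.fst (tgt G W.ι) u ≫ src G W.ι) ∧
    Surjective (pullback.fst (tgt G W.ι) u ≫ src G W.ι) ∧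
    ∀ E : Set Z, (∀ x ∈ E, ∀ y ∈ E, ∃ r : arrows G W.ι, tgt G W.ι r = u x ∧
      src G W.ι r = u y) → ∃ O : Z.Opens, IsAffineOpen O ∧ E ⊆ (O : Set Z) := H x
  refine ⟨W, Z, u ≫ W.ι, hx, hW, inferInstance,
    ⟨prop_of_restrict @IsFinite W hW u a1, prop_of_restrict @Flat W hW u a2,
      prop_of_restrict @LocallyOfFinitePresentation W hW u a3⟩,
    prop_of_restrict @Surjective W hW u hs, ?_⟩
  intro E hE1 hE2
  obtain ⟨O, hO, hEO⟩ := h2 E (by
    intro a ha b hb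
    obtain ⟨r, hr1, hr2⟩ := hE2 a ha b hb
    have h3 : r ∈ G.s ⁻¹ᵁ W := by
      show G.s r ∈ W
      rw [hr2]
      exact hE1 b hb
    rw [← opensRange_toR G W hW] at h3
    obtain ⟨r', rfl⟩ := h3
    refine ⟨r', ?_, ?_⟩
    · apply W.ι.isOpenEmbedding.injective
      rw [← Scheme.Hom.comp_apply, ← toR_t, Scheme.Hom.comp_apply, hr1, Scheme.Hom.comp_apply]
    · apply W.ι.isOpenEmbedding.injective
      rw [← Scheme.Hom.comp_apply, ← toR_s, Scheme.Hom.comp_apply, hr2, Scheme.Hom.comp_apply])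
  refine ⟨O, hO, hEO, ?_⟩
  intro y _
  exact (u y).2

end Groth.Agent.GrpQ.H767.LocQSR
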