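import Groth.Agent.GrpQ.H767.Strong
import Groth.Agent.GrpQ.H765.GlueProps

/-!
# Quasi-sections over saturated open subschemes

`u : Z ⟶ U` a morphism, `f := pullback.fst G.t u ≫ G.s : R ×_{t,U} Z ⟶ U`, `W` a saturated open of `U`.
Then the restriction `f ∣_ W` is the morphism attached to `u ∣_ W : u⁻¹ W ⟶ W` and the groupoid restricted to
`W`.
-/

set_option autoImplicit false
universe u

open CategoryTheory CategoryTheory.Limits AlgebraicGeometry TopologicalSpace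

namespace Groth.Agent.GrpQ.H767.Local

open Groth.Agent.Grpsch.Points Groth.Agent.Grpsch.Restrict Groth.Agent.GrpQ.H767.QuasiSection
open Groth.Agent.GrpQ.H766.GeomQuotDef Groth.Agent.GrpQ.H766.AffineCase Groth.Agent.Grpsch.PtRestrict
open Groth.Agent.GrpQ.H765.GlueProps

variable {S : Scheme.{u}} (G : Grpd.GroupoidScheme S)

section
variable {Z : Scheme.{u}} (z : Z ⟶ G.U) (W : G.U.Opens)

/-- the morphism `sV` for the restricted groupoid and `z ∣_ W`. -/
noncomputable abbrev sV' : pullback (tgt G W.ι) (z ∣_ W) ⟶ W.toScheme :=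
  pullback.fst (tgt G W.ι) (z ∣_ W) ≫ src G W.ι

/-- comparison map -/
noncomputable def cmp : pullback (tgt G W.ι) (z ∣_ W) ⟶ pullback G.t z :=
  pullback.map _ _ _ _ (toR G W.ι) (z ⁻¹ᵁ W).ι W.ι (toR_t G W.ι).symm (morphismRestrict_ι z W)

lemma cmp_fst : cmp G z W ≫ pullback.fst G.t z = pullback.fst _ _ ≫ toR G W.ι :=
  pullback.lift_fst _ _ _

lemma cmp_snd : cmp G z W ≫ pullback.snd G.t z = pullback.snd _ _ ≫ (z ⁻¹ᵁ W).ι :=
  pullback.lift_snd _ _ _

instance : IsOpenImmersion (cmp G z W) := by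
  unfold cmp; infer_instance

lemma cmp_sV : cmp G z W ≫ sV G z = sV' G z W ≫ W.ι := by
  rw [sV, ← Category.assoc, cmp_fst, Category.assoc, toR_s, sV', Category.assoc]

theorem isPullback_cmp (hW : G.s ⁻¹ᵁ W = G.t ⁻¹ᵁ W) :
    IsPullback (cmp G z W) (sV' G z W) (sV G z) W.ι := by
  refine isPullback_of_opensRange _ _ _ _ (cmp_sV G z W).symm ?_
  ext y
  rw [Scheme.Opens.opensRange_ι]
  have hr : y ∈ (cmp G z W).opensRange ↔ y ∈ Set.range (cmp G z W) := Iff.rfl
  constructor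
  · intro hy
    have h1 : pullback.fst G.t z y ∈ G.s ⁻¹ᵁ W := hy
    have h3 : y ∈ Set.range (cmp G z W) := by
      rw [cmp, Scheme.Pullback.range_map]
      refine ⟨?_, ?_⟩
      · show pullback.fst G.t z y ∈ (toR G W.ι).opensRange
        rw [opensRange_toR G W hW]
        exact h1
      · show pullback.snd G.t z y ∈ Set.range (z ⁻¹ᵁ W).ι
        rw [Scheme.Opens.range_ι]
        show z (pullback.snd G.t z y) ∈ W
        rw [← Scheme.Hom.comp_apply, ← pullback.condition, Scheme.Hom.comp_apply]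
        rw [hW] at h1
        exact h1
    exact h3
  · rintro ⟨x, rfl⟩
    show sV G z (cmp G z W x) ∈ W
    rw [← Scheme.Hom.comp_apply, cmp_sV, Scheme.Hom.comp_apply]
    exact (sV' G z W x).2

theorem prop_sV' (P : MorphismProperty Scheme.{u}) [P.RespectsIso]
    (hW : G.s ⁻¹ᵁ W = G.t ⁻¹ᵁ W) (h : P (sV G z ∣_ W)) : P (sV' G z W) := by
  have h1 := isPullback_cmp G z W hW
  have h2 := isPullback_morphismRestrict (sV G z) W
  have he : (h1.isoIsPullback _ _ h2.flip).hom ≫ (sV G z ∣_ W) = sV' G z W :=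
    IsPullback.isoIsPullback_hom_snd ..
  rw [← he, P.cancel_left_of_respectsIso]
  exact h

end

/-- Everything one knows about the quotient `p' : W ⟶ Y'` over a saturated open `W` which has a finite
locally free quasi-section `z' : Z' ⟶ W`. -/
structure LQ (W : G.U.Opens) (hW : G.s ⁻¹ᵁ W = G.t ⁻¹ᵁ W) {Z' : Scheme.{u}} (z' : Z' ⟶ W.toScheme)
    {Y' : Scheme.{u}} (p' : W.toScheme ⟶ Y') : Prop where
  geom : IsGeomQuot (G.s ∣_ W) (tRes G.s G.t W hW) p'
  integral : IsIntegralHom (z' ≫ p')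
  surj : Surjective (z' ≫ p')
  inj : ∀ O : Y'.Opens, Function.Injective ((z' ≫ p').app O)
  uc : UniversallyClosed G.t → UniversallyClosed p'
  lift : ∃ w : tRes G.s G.t W hW ≫ p' = (G.s ∣_ W) ≫ p',
    Function.Surjective (pullback.lift (tRes G.s G.t W hW) (G.s ∣_ W) w)
  pb : Mono G.j → IsPullback (tRes G.s G.t W hW) (G.s ∣_ W) p' p'
  flf : Mono G.j → Mor2.IsFinLocFree (z' ≫ p')
  flat : Mono G.j → Flat G.t → Flat p'

theorem exists_LQ (W : G.U.Opens) (hW : G.s ⁻¹ᵁ W = G.t ⁻¹ᵁ W) {Z : Scheme.{u}} (z : Z ⟶ G.U)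
    (h1 : Mor2.IsFinLocFree (sV G z ∣_ W)) (hs : Surjective (sV G z ∣_ W))
    (h2 : ∀ E : Set Z, (∀ x ∈ E, z x ∈ W) →
      (∀ x ∈ E, ∀ y ∈ E, ∃ r : G.R, G.t r = z x ∧ G.s r = z y) →
      ∃ O : Z.Opens, IsAffineOpen O ∧ E ⊆ (O : Set Z) ∧ O ≤ z ⁻¹ᵁ W) :
    ∃ (Y' : Scheme.{u}) (p' : W.toScheme ⟶ Y'), LQ G W hW (z ∣_ W) p' := by
  obtain ⟨a1, a2, a3⟩ := h1
  have b1 : Mor2.IsFinLocFree (pullback.fst (restrict G W.ι).t (z ∣_ W) ≫ (restrict G W.ι).s) :=
    ⟨prop_sV' G z W @IsFinite hW a1, prop_sV' G z W @Flat hW a2,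
      prop_sV' G z W @LocallyOfFinitePresentation hW a3⟩
  have b2 : Surjective (pullback.fst (restrict G W.ι).t (z ∣_ W) ≫ (restrict G W.ι).s) :=
    prop_sV' G z W @Surjective hW hs
  obtain ⟨Y', p', h⟩ := Strong.exists_concl (restrict G W.ι) (z ∣_ W) b1 (by
    intro E' hE'
    obtain ⟨O, hO, hEO, hOW⟩ := h2 ((z ⁻¹ᵁ W).ι '' E') (by
      rintro _ ⟨x, -, rfl⟩
      exact x.2) (by
      rintro _ ⟨x, hx, rfl⟩ _ ⟨y, hy, rfl⟩
      obtain ⟨r, hr1, hr2⟩ := hE' x hx y hy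
      refine ⟨toR G W.ι r, ?_, ?_⟩
      · rw [← Scheme.Hom.comp_apply, toR_t, Scheme.Hom.comp_apply]
        have hr1' : tgt G W.ι r = (z ∣_ W) x := hr1
        rw [hr1', ← Scheme.Hom.comp_apply, morphismRestrict_ι, Scheme.Hom.comp_apply]
      · rw [← Scheme.Hom.comp_apply, toR_s, Scheme.Hom.comp_apply]
        have hr2' : src G W.ι r = (z ∣_ W) y := hr2
        rw [hr2', ← Scheme.Hom.comp_apply, morphismRestrict_ι, Scheme.Hom.comp_apply])
    refine ⟨(z ⁻¹ᵁ W).ι ⁻¹ᵁ O, hO.preimage_of_isOpenImmersion (z ⁻¹ᵁ W).ι (by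
      rw [Scheme.Opens.opensRange_ι]; exact hOW), ?_⟩
    intro x hx
    exact hEO ⟨x, hx, rfl⟩)
  have hgeom : IsGeomQuot (src G W.ι) (tgt G W.ι) p' := h.geom
  have hiso : IsIso (fromPreimage G W hW) :=
    isIso_of_isOpenImmersion_of_opensRange_eq_top _ (opensRange_fromPreimage G W hW)
  have hf1 := fromPreimage_tgt G W hW
  have hf2 := fromPreimage_src G W hW
  refine ⟨Y', p', isGeomQuot_tRes G W hW hgeom, h.integral, h.surj, h.inj, ?_, ?_, ?_, ?_, ?_⟩
  · intro ht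
    exact h.uc (MorphismProperty.of_isPullback (P := @UniversallyClosed)
      (isPullback_tgt G W hW).flip ht)
  · refine ⟨by rw [← hf1, ← hf2, Category.assoc, Category.assoc, hgeom.w], ?_⟩
    exact Groth.Agent.GrpQ.H765.FinQuot.surjective_lift_of_comp hgeom.w (fromPreimage G W hW)
      (fromPreimage G W hW).surjective _ hf1 hf2 h.lift
  · intro hj
    have h3 : IsPullback (tgt G W.ι) (src G W.ι) p' p' := h.pb inferInstance
    exact h3.of_iso (asIso (fromPreimage G W hW)).symm (Iso.refl _) (Iso.refl _) (Iso.refl _)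
      (by rw [← hf1]; simp) (by rw [← hf2]; simp) (by simp) (by simp)
  · intro hj
    exact h.flf inferInstance
  · intro hj ht
    exact h.flat inferInstance (MorphismProperty.of_isPullback (P := @Flat)
      (isPullback_tgt G W hW).flip ht)

end Groth.Agent.GrpQ.H767.Local
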