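import Groth.Agent.GrpQ.H767.QuasiSection
import Groth.Agent.Grpsch.GrpdPt
import Mathlib.AlgebraicGeometry.Morphisms.Immersion

/-!
# `S4087` from `S4085` and `S4086`

The statement on quotients by groupoid schemes possessing a quasi-section, deduced from the finite locally
free case (existence `S4085` and the cartesian square `S4086`).
-/

set_option autoImplicit false
universe u

open CategoryTheory CategoryTheory.Limits AlgebraicGeometry

namespace Groth.Agent.GrpQ.H767.S4087Of

open Groth.Agent.Grpsch.Points Groth.Agent.Grpsch.Restrict Groth.Agent.GrpQ.H767.QuasiSection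

variable {S : Scheme.{u}} (G : Grpd.GroupoidScheme S) {U' : Scheme.{u}} (g : U' ⟶ G.U)

/-- properties of `V ⟶ U` pass to the source of the restriction. -/
theorem prop_src (P : MorphismProperty Scheme.{u}) [P.IsStableUnderBaseChange]
    (h : P (sV G g)) : P (src G g) := by
  have : P.RespectsIso := inferInstance
  have h1 : pullback.snd g G.t ≫ G.s = (pullbackSymmetry g G.t).hom ≫ sV G g := by
    rw [sV, pullbackSymmetry_hom_comp_fst_assoc]
  have h2 : P (pullback.snd g G.t ≫ G.s) := by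
    rw [h1, P.cancel_left_of_respectsIso]; exact h
  exact P.pullback_snd _ _ h2

variable {G g} in
lemma arrows_ext [Mono G.j] {T : Scheme.{u}} {a b : T ⟶ arrows G g}
    (h1 : a ≫ tgt G g = b ≫ tgt G g) (h2 : a ≫ src G g = b ≫ src G g) : a = b := by
  apply arrows_hom_ext h1 ?_ h2
  rw [← cancel_mono G.j, comp_j_eq_iff]
  constructor
  · rw [Category.assoc, toR_t, reassoc_of% h1, Category.assoc, toR_t]
  · rw [Category.assoc, toR_s, reassoc_of% h2, Category.assoc, toR_s]

instance [Mono G.j] : Mono (restrict G g).j := by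
  refine ⟨fun a b hab => ?_⟩
  rw [comp_j_eq_iff] at hab
  exact arrows_ext (G := G) (g := g) hab.1 hab.2

/-- The orbits of the restriction consist of pairwise equivalent points. -/
theorem orbit_equiv (x : U') (a b : U')
    (ha : a ∈ (restrict G g).t '' ((restrict G g).s ⁻¹' {x}))
    (hb : b ∈ (restrict G g).t '' ((restrict G g).s ⁻¹' {x})) :
    ∃ r : G.R, G.t r = g a ∧ G.s r = g b := by
  obtain ⟨r1, h1, rfl⟩ := ha
  obtain ⟨r2, h2, rfl⟩ := hb
  have h1' : src G g r1 = x := h1
  have h2' : src G g r2 = x := h2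
  have e1 : G.s (toR G g r1) = g x := by
    rw [← Scheme.Hom.comp_apply, toR_s, Scheme.Hom.comp_apply, h1']
  have e2 : G.s (toR G g r2) = g x := by
    rw [← Scheme.Hom.comp_apply, toR_s, Scheme.Hom.comp_apply, h2']
  have f1 : G.t (toR G g r1) = g (tgt G g r1) := by
    rw [← Scheme.Hom.comp_apply, toR_t, Scheme.Hom.comp_apply]
  have f2 : G.t (toR G g r2) = g (tgt G g r2) := by
    rw [← Scheme.Hom.comp_apply, toR_t, Scheme.Hom.comp_apply]
  have hE := Groth.Agent.Grpsch.GrpdPt.isPtEquiv G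
  obtain ⟨r3, h3, h3'⟩ := hE.symm (toR G g r2)
  obtain ⟨r4, h4, h4'⟩ := hE.trans (toR G g r1) r3 (by rw [e1, h3', e2])
  exact ⟨r4, by rw [h4', f1]; rfl, by rw [h4, h3, f2]; rfl⟩

/-- **S4087 from S4085 and S4086.** -/
theorem main
    (H85 : ∀ (S : Scheme.{u}) (G : Grpd.GroupoidScheme S)
      (_ : Mor2.IsFinLocFree G.s)
      (_ : ∀ x : G.U, ∃ V : G.U.Opens, IsAffineOpen V ∧
        G.t.base '' (G.s.base ⁻¹' {x}) ⊆ (V : Set G.U)),
      ∃ (Y : Scheme.{u}) (p : G.U ⟶ Y) (w : G.t ≫ p = G.s ≫ p),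
        Nonempty (IsColimit (Cofork.ofπ p w)) ∧ IsIntegralHom p ∧ Surjective p ∧
        Function.Surjective (pullback.lift G.t G.s w).base)
    (H86 : ∀ (S : Scheme.{u}) (G : Grpd.GroupoidScheme S)
      (_ : Mor2.IsFinLocFree G.s)
      (_ : ∀ x : G.U, ∃ V : G.U.Opens, IsAffineOpen V ∧
        G.t.base '' (G.s.base ⁻¹' {x}) ⊆ (V : Set G.U))
      (_ : Mono G.j) (Y : Scheme.{u}) (p : G.U ⟶ Y) (w : G.t ≫ p = G.s ≫ p)
      (_ : IsColimit (Cofork.ofπ p w)), IsPullback G.t G.s p p ∧ Mor2.IsFinLocFree p)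
    (S : Scheme.{u}) (G : Grpd.GroupoidScheme S)
    (U' : Scheme.{u}) (u : U' ⟶ G.U)
    (h1 : Mor2.IsFinLocFree (pullback.fst G.t u ≫ G.s) ∧ Surjective (pullback.fst G.t u ≫ G.s))
    (h2 : ∀ E : Set U', (∀ x ∈ E, ∀ y ∈ E, ∃ r : G.R, G.t.base r = u.base x ∧ G.s.base r = u.base y) →
      ∃ W : U'.Opens, IsAffineOpen W ∧ E ⊆ (W : Set U')) :
    ∃ (Y : Scheme.{u}) (p : G.U ⟶ Y) (w : G.t ≫ p = G.s ≫ p),
      Nonempty (IsColimit (Cofork.ofπ p w)) ∧ Surjective p ∧
      (IsOpenMap G.t.base → IsOpenMap p.base) ∧ (UniversallyClosed G.t → UniversallyClosed p) ∧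
      Function.Surjective (pullback.lift G.t G.s w).base ∧
      (Mono G.j → IsPullback G.t G.s p p ∧ (Flat G.t → Flat p)) := by
  obtain ⟨⟨hfin, hflat, hlfp⟩, hsurj⟩ := h1
  have hfin' : IsFinite (sV G u) := hfin
  have hflat' : Flat (sV G u) := hflat
  have hsurj' : Surjective (sV G u) := hsurj
  have ha : Mor2.IsFinLocFree (restrict G u).s :=
    ⟨prop_src G u @IsFinite hfin, prop_src G u @Flat hflat,
      prop_src G u @LocallyOfFinitePresentation hlfp⟩
  have hb : ∀ x : (restrict G u).U, ∃ V : (restrict G u).U.Opens, IsAffineOpen V ∧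
      (restrict G u).t.base '' ((restrict G u).s.base ⁻¹' {x}) ⊆ (V : Set (restrict G u).U) := by
    intro x
    exact h2 _ fun a ha b hb => orbit_equiv G u x a b ha hb
  obtain ⟨Y, q, wq, hc, hint, hqs, hls⟩ : ∃ (Y : Scheme.{u}) (q : U' ⟶ Y)
      (wq : tgt G u ≫ q = src G u ≫ q), Nonempty (IsColimit (Cofork.ofπ q wq)) ∧
      IsIntegralHom q ∧ Surjective q ∧
      Function.Surjective (pullback.lift (tgt G u) (src G u) wq).base :=
    H85 S (restrict G u) ha hb
  have hls' : Surjective (pullback.lift (tgt G u) (src G u) wq) := ⟨hls⟩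
  have hp : u ≫ desc G u q wq = q := g_desc G u q wq
  have w : G.t ≫ desc G u q wq = G.s ≫ desc G u q wq := t_desc G u q wq
  have hepi : Epi (sV G u) := Flat.epi_of_flat_of_surjective _
  have hL : Surjective (pullback.lift G.t G.s w) := surjective_lift G u q wq _ w hp
  refine ⟨Y, desc G u q wq, w, isColimit G u q wq _ w hp hc, surjective G u q _ hp, ?_, ?_,
    hL.surj, ?_⟩
  · intro ht
    have hqq : Topology.IsQuotientMap q :=
      (q.isClosedMap).isQuotientMap q.continuous q.surjective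
    exact isOpenMap G u q _ w hp hL ht hqq
  · intro ht
    exact universallyClosed G u q _ w hp
  · intro hj
    have h86 : IsPullback (tgt G u) (src G u) q q ∧ Mor2.IsFinLocFree q :=
      H86 S (restrict G u) ha hb inferInstance Y q wq hc.some
    obtain ⟨hsq, hqf⟩ := h86
    refine ⟨isPullback G u q wq _ w hp hsq, fun ht => ?_⟩
    have : Flat q := hqf.2.1
    exact flat G u q _ w hp

end Groth.Agent.GrpQ.H767.S4087Of
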