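import Groth.Agent.GrpQ.H767.GeomQuotExt
import Groth.Agent.GrpQ.H767.S4087Of

/-!
# Geometric quotients of groupoids with a finite locally free quasi-section

Strong form of S4087, from the strong form `StrongFLF` of S4085 and S4086 for finite locally free groupoids.
-/

set_option autoImplicit false
universe u

open CategoryTheory CategoryTheory.Limits AlgebraicGeometry TopologicalSpace

namespace Groth.Agent.GrpQ.H767.Main

open Groth.Agent.Grpsch.Points Groth.Agent.Grpsch.Restrict Groth.Agent.GrpQ.H767.QuasiSection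
open Groth.Agent.GrpQ.H766.GeomQuotDef Groth.Agent.GrpQ.H767.S4087Of
open Groth.Agent.GrpQ.H767.GeomQuotExt

/-- Existence and properties of quotients of finite locally free groupoids (S4085 + S4086). -/
def StrongFLF : Prop :=
  ∀ (S : Scheme.{u}) (G : Grpd.GroupoidScheme S) (_ : Mor2.IsFinLocFree G.s)
    (_ : ∀ x : G.U, ∃ V : G.U.Opens, IsAffineOpen V ∧
        G.t.base '' (G.s.base ⁻¹' {x}) ⊆ (V : Set G.U)),
    ∃ (Y : Scheme.{u}) (p : G.U ⟶ Y) (h : IsGeomQuot G.s G.t p), IsIntegralHom p ∧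
      Function.Surjective (pullback.lift G.t G.s h.w) ∧
      (Mono G.j → IsPullback G.t G.s p p ∧ Mor2.IsFinLocFree p)

/-- Strong form of the conclusion of S4087 -/
structure Concl {S : Scheme.{u}} (G : Grpd.GroupoidScheme S) {U' : Scheme.{u}} (g : U' ⟶ G.U)
    {Y : Scheme.{u}} (p : G.U ⟶ Y) : Prop where
  geom : IsGeomQuot G.s G.t p
  integral : IsIntegralHom (g ≫ p)
  surj : Surjective (g ≫ p)
  inj : ∀ W : Y.Opens, Function.Injective ((g ≫ p).app W)
  uc : UniversallyClosed G.t → UniversallyClosed p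
  lift : Function.Surjective (pullback.lift G.t G.s geom.w)
  pb : Mono G.j → IsPullback G.t G.s p p
  flf : Mono G.j → Mor2.IsFinLocFree (g ≫ p)
  flat : Mono G.j → Flat G.t → Flat p

theorem exists_concl (H : StrongFLF.{u}) {S : Scheme.{u}} (G : Grpd.GroupoidScheme S)
    {U' : Scheme.{u}} (g : U' ⟶ G.U)
    (h1 : Mor2.IsFinLocFree (pullback.fst G.t g ≫ G.s)) [hsurj : Surjective (pullback.fst G.t g ≫ G.s)]
    (h2 : ∀ E : Set U', (∀ x ∈ E, ∀ y ∈ E, ∃ r : G.R, G.t r = g x ∧ G.s r = g y) →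
      ∃ W : U'.Opens, IsAffineOpen W ∧ E ⊆ (W : Set U')) :
    ∃ (Y : Scheme.{u}) (p : G.U ⟶ Y), Concl G g p := by
  obtain ⟨hfin, hflat, hlfp⟩ := h1
  have hfin' : IsFinite (sV G g) := hfin
  have hflat' : Flat (sV G g) := hflat
  have hsurj' : Surjective (sV G g) := hsurj
  have ha : Mor2.IsFinLocFree (restrict G g).s :=
    ⟨prop_src G g @IsFinite hfin, prop_src G g @Flat hflat,
      prop_src G g @LocallyOfFinitePresentation hlfp⟩
  have hb : ∀ x : (restrict G g).U, ∃ V : (restrict G g).U.Opens, IsAffineOpen V ∧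
      (restrict G g).t.base '' ((restrict G g).s.base ⁻¹' {x}) ⊆ (V : Set (restrict G g).U) := by
    intro x
    exact h2 _ fun a ha b hb => orbit_equiv G g x a b ha hb
  obtain ⟨Y, q, hq, hint, hls, hmono⟩ : ∃ (Y : Scheme.{u}) (q : U' ⟶ Y)
      (hq : IsGeomQuot (src G g) (tgt G g) q), IsIntegralHom q ∧
      Function.Surjective (pullback.lift (tgt G g) (src G g) hq.w) ∧
      (Mono (restrict G g).j → IsPullback (tgt G g) (src G g) q q ∧ Mor2.IsFinLocFree q) :=
    H S (restrict G g) ha hb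
  obtain ⟨p, hp, hpq⟩ := GeomQuotExt.exists_isGeomQuot G g q hq
  have hls' : Surjective (pullback.lift (tgt G g) (src G g) hq.w) := ⟨hls⟩
  have hqs : Surjective q := ⟨hq.surjective⟩
  refine ⟨Y, p, ?_⟩
  have hL : Surjective (pullback.lift G.t G.s hpq.w) := surjective_lift G g q hq.w p hpq.w hp
  refine ⟨hpq, ?_, ?_, ?_, fun ht => universallyClosed G g q p hpq.w hp, hL.surj,
    fun hj => isPullback G g q hq.w p hpq.w hp (hmono inferInstance).1, ?_, ?_⟩
  · rw [hp]; exact hint
  · rw [hp]; exact hqs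
  · subst hp; exact hq.inj
  · intro hj
    rw [hp]
    exact (hmono inferInstance).2
  · intro hj ht
    have : Flat q := (hmono inferInstance).2.2.1
    exact flat G g q p hpq.w hp

end Groth.Agent.GrpQ.H767.Main
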