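import Groth.Agent.Grpsch.Restrict
import Groth.Agent.Sga3C.FlatOfComp
import Groth.Prelude.Def_Mor2
import Mathlib.AlgebraicGeometry.Sites.Fpqc
import Mathlib.AlgebraicGeometry.Morphisms.FlatDescent
import Mathlib.AlgebraicGeometry.Morphisms.Integral

/-!
# Quotients of groupoid schemes along a quasi-section

Let `G = (U, R, s, t, c)` be a groupoid scheme, `g : U' ⟶ U` a morphism such that
`sV : V = R ×_{t, U} U' ⟶ U` (induced by `s`) is flat, surjective and quasi-compact (a quasi-section, e.g.
with `sV` finite locally free and surjective). If `q : U' ⟶ Y` equalizes the two projections of the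
restricted groupoid, then `q` extends uniquely to `p : U ⟶ Y` with `t ≫ p = s ≫ p`; `p` inherits the
properties of `q`: coequalizer, surjectivity, openness (if `t` is open), universal closedness (if `t` is),
`R → U ×_Y U` surjective (isomorphism if `j` is a monomorphism), flatness.
-/

set_option autoImplicit false
universe u

open CategoryTheory CategoryTheory.Limits AlgebraicGeometry

namespace Groth.Agent.GrpQ.H767.QuasiSection

open Groth.Agent.Grpsch.Points Groth.Agent.Grpsch.Restrict

variable {S : Scheme.{u}} (G : Grpd.GroupoidScheme S) {U' : Scheme.{u}} (g : U' ⟶ G.U)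

/-- The morphism `V = R ×_{t,U} U' ⟶ U` induced by the source. -/
noncomputable abbrev sV : pullback G.t g ⟶ G.U := pullback.fst G.t g ≫ G.s

variable {T : Scheme.{u}}

/-- the arrow `v' ∘ v⁻¹` between the targets of two arrows `v, v'` with the same source and targets in
`U'`, as a point of the restricted groupoid. -/
noncomputable def link (x y : T ⟶ pullback G.t g) (h : x ≫ sV G g = y ≫ sV G g) : T ⟶ arrows G g :=
  mk G g (x ≫ pullback.snd G.t g)
    (mul G (x ≫ pullback.fst G.t g) ((y ≫ pullback.fst G.t g) ≫ G.i) (by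
      rw [inv_t, Category.assoc, Category.assoc]; exact h))
    (y ≫ pullback.snd G.t g)
    (by rw [mul_t, Category.assoc, Category.assoc, pullback.condition])
    (by rw [mul_s, inv_s, Category.assoc, Category.assoc, pullback.condition])

lemma link_tgt (x y : T ⟶ pullback G.t g) (h : x ≫ sV G g = y ≫ sV G g) :
    link G g x y h ≫ tgt G g = x ≫ pullback.snd G.t g := mk_tgt ..

lemma link_src (x y : T ⟶ pullback G.t g) (h : x ≫ sV G g = y ≫ sV G g) :
    link G g x y h ≫ src G g = y ≫ pullback.snd G.t g := mk_src ..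

variable {Y : Scheme.{u}} (q : U' ⟶ Y) (wq : tgt G g ≫ q = src G g ≫ q)

include wq in
lemma comp_q_eq (x y : T ⟶ pullback G.t g) (h : x ≫ sV G g = y ≫ sV G g) :
    x ≫ pullback.snd G.t g ≫ q = y ≫ pullback.snd G.t g ≫ q := by
  rw [← Category.assoc, ← Category.assoc, ← link_tgt G g x y h, ← link_src G g x y h,
    Category.assoc, Category.assoc, wq]

section
variable [EffectiveEpi (sV G g)]

/-- The extension `p : U ⟶ Y` of `q : U' ⟶ Y`. -/
noncomputable def desc : G.U ⟶ Y :=
  EffectiveEpi.desc (sV G g) (pullback.snd G.t g ≫ q) fun x y h => comp_q_eq G g q wq x y h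

lemma sV_desc : sV G g ≫ desc G g q wq = pullback.snd G.t g ≫ q :=
  EffectiveEpi.fac _ _ _

/-- for an arrow `r` with target `x` in `U'`: `p(s(r)) = q(x)`. -/
lemma s_desc (r : T ⟶ G.R) (x : T ⟶ U') (h : r ≫ G.t = x ≫ g) :
    r ≫ G.s ≫ desc G g q wq = x ≫ q := by
  have h1 := congr(pullback.lift r x h ≫ $(sV_desc G g q wq))
  simpa only [sV, Category.assoc, pullback.lift_fst_assoc, pullback.lift_snd_assoc] using h1

lemma g_desc : g ≫ desc G g q wq = q := by
  have h1 := s_desc G g q wq (g ≫ G.e) (𝟙 _) (by simp)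
  simpa using h1

lemma t_desc [Flat (sV G g)] [Surjective (sV G g)] :
    G.t ≫ desc G g q wq = G.s ≫ desc G g q wq := by
  have h0 : Epi (pullback.fst G.t (sV G g)) := Flat.epi_of_flat_of_surjective _
  rw [← cancel_epi (pullback.fst G.t (sV G g)), pullback.condition_assoc, sV_desc]
  have hc : pullback.fst G.t (sV G g) ≫ G.t =
      (pullback.snd G.t (sV G g) ≫ pullback.fst G.t g) ≫ G.s := by
    rw [pullback.condition, Category.assoc]
  let r : pullback G.t (sV G g) ⟶ G.R :=
    mul G (pullback.snd G.t (sV G g) ≫ pullback.fst G.t g) (pullback.fst G.t (sV G g)) hc.symm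
  have h2 := s_desc G g q wq r (pullback.snd G.t (sV G g) ≫ pullback.snd G.t g) (by
    rw [mul_t, Category.assoc, Category.assoc, pullback.condition])
  rw [← Category.assoc, mul_s, Category.assoc, Category.assoc] at h2
  exact h2.symm

lemma desc_unique {p' : G.U ⟶ Y} (wp : G.t ≫ p' = G.s ≫ p') (h : g ≫ p' = q) :
    p' = desc G g q wq := by
  rw [← cancel_epi (sV G g), sV_desc, ← h, sV, Category.assoc, ← wp, pullback.condition_assoc]

end

/-- coequalizer property. -/
theorem isColimit (p : G.U ⟶ Y) (w : G.t ≫ p = G.s ≫ p) (hp : g ≫ p = q)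
    [Epi (sV G g)]
    (hq : Nonempty (IsColimit (Cofork.ofπ q wq))) : Nonempty (IsColimit (Cofork.ofπ p w)) := by
  obtain ⟨hq⟩ := hq
  have hqe : Epi q := ⟨fun a b hab => Cofork.IsColimit.hom_ext hq hab⟩
  have hpe : Epi p := by
    have : Epi (g ≫ p) := by rw [hp]; exact hqe
    exact epi_of_epi g p
  have key : ∀ (c : Cofork G.t G.s), ∃ d : Y ⟶ c.pt, p ≫ d = c.π := by
    intro c
    obtain ⟨d, hd⟩ := Cofork.IsColimit.desc' hq (g ≫ c.π) (by
      rw [← toR_t_assoc, c.condition, toR_s_assoc])
    refine ⟨d, ?_⟩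
    replace hd : q ≫ d = g ≫ c.π := hd
    rw [← cancel_epi (sV G g)]
    calc sV G g ≫ p ≫ d = pullback.fst G.t g ≫ (G.s ≫ p) ≫ d := by simp only [sV, Category.assoc]
      _ = (pullback.fst G.t g ≫ G.t) ≫ p ≫ d := by rw [← w]; simp only [Category.assoc]
      _ = pullback.snd G.t g ≫ (g ≫ p) ≫ d := by rw [pullback.condition]; simp only [Category.assoc]
      _ = (pullback.snd G.t g ≫ g) ≫ c.π := by rw [hp, hd, Category.assoc]
      _ = pullback.fst G.t g ≫ G.t ≫ c.π := by rw [← pullback.condition, Category.assoc]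
      _ = sV G g ≫ c.π := by rw [c.condition, sV, Category.assoc]
  refine ⟨Cofork.IsColimit.mk _ (fun c => (key c).choose) (fun c => (key c).choose_spec) ?_⟩
  intro c m hm
  rw [← cancel_epi p]
  exact hm.trans (key c).choose_spec.symm

section props
variable (p : G.U ⟶ Y) (w : G.t ≫ p = G.s ≫ p) (hp : g ≫ p = q)

include w hp in
lemma sV_comp : sV G g ≫ p = pullback.snd G.t g ≫ q := by
  rw [sV, Category.assoc, ← w, pullback.condition_assoc, hp]

include hp in
theorem surjective [Surjective q] : Surjective p := by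
  have : Surjective (g ≫ p) := by rw [hp]; infer_instance
  exact .of_comp g p

include w hp in
theorem universallyClosed [Surjective (sV G g)] [UniversallyClosed G.t] [UniversallyClosed q] :
    UniversallyClosed p := by
  have : UniversallyClosed (sV G g ≫ p) := by
    rw [sV_comp G g q p w hp]; infer_instance
  exact UniversallyClosed.of_comp_surjective (sV G g) p

include w hp in
theorem flat [Surjective (sV G g)] [Flat (sV G g)] [Flat G.t] [Flat q] : Flat p := by
  have : Flat (sV G g ≫ p) := by
    rw [sV_comp G g q p w hp]; infer_instance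
  exact Groth.Agent.Sga3C.FlatOfComp.flat_of_comp (sV G g) p

/-- two points with the same image in `Y` are linked by a point of `R`. -/
theorem exists_of_surjective (hs : Surjective (pullback.lift G.t G.s w)) (x y : G.U)
    (hxy : p x = p y) : ∃ r : G.R, G.t r = x ∧ G.s r = y := by
  obtain ⟨z, hz1, hz2⟩ := Scheme.Pullback.exists_preimage_pullback x y hxy
  obtain ⟨r, rfl⟩ := hs.surj z
  refine ⟨r, ?_, ?_⟩
  · rw [← hz1, ← Scheme.Hom.comp_apply, pullback.lift_fst]
  · rw [← hz2, ← Scheme.Hom.comp_apply, pullback.lift_snd]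

include hp in
theorem isOpenMap (hs : Surjective (pullback.lift G.t G.s w)) (ht : IsOpenMap G.t)
    (hq : Topology.IsQuotientMap q) : IsOpenMap p := by
  intro O hO
  rw [← hq.isOpen_preimage]
  have h1 : q ⁻¹' (p '' O) = g ⁻¹' (G.s '' (G.t ⁻¹' O)) := by
    ext x
    constructor
    · rintro ⟨y, hy, hxy⟩
      obtain ⟨r, hr1, hr2⟩ := exists_of_surjective G p w hs y (g x) (by
        rw [hxy, ← hp, Scheme.Hom.comp_apply])
      exact ⟨r, by rw [Set.mem_preimage, hr1]; exact hy, hr2⟩
    · rintro ⟨r, hr, hrx⟩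
      refine ⟨G.t r, hr, ?_⟩
      rw [← hp, Scheme.Hom.comp_apply, ← hrx, ← Scheme.Hom.comp_apply, w, Scheme.Hom.comp_apply]
  rw [h1]
  have h2 : IsOpenMap G.s := by
    rw [← i_t G]
    exact ht.comp (G.i.homeomorph).isOpenMap
  exact (h2 _ (hO.preimage G.t.continuous)).preimage g.continuous

/-- the cover of `U ×_Y U` by `V ×_Y V`. -/
noncomputable abbrev M : Scheme.{u} := pullback (pullback.snd G.t g ≫ q) (pullback.snd G.t g ≫ q)

/-- `V ×_Y V ⟶ U ×_Y U`. -/
noncomputable def MtoU : M G g q ⟶ pullback p p :=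
  pullback.map _ _ _ _ (sV G g) (sV G g) (𝟙 Y)
    ((Category.comp_id _).trans (sV_comp G g q p w hp).symm)
    ((Category.comp_id _).trans (sV_comp G g q p w hp).symm)

@[reassoc (attr := simp)]
lemma MtoU_fst : MtoU G g q p w hp ≫ pullback.fst p p = pullback.fst _ _ ≫ sV G g :=
  pullback.lift_fst _ _ _

@[reassoc (attr := simp)]
lemma MtoU_snd : MtoU G g q p w hp ≫ pullback.snd p p = pullback.snd _ _ ≫ sV G g :=
  pullback.lift_snd _ _ _

/-- `V ×_Y V ⟶ U' ×_Y U'`. -/
noncomputable def MtoU' : M G g q ⟶ pullback q q :=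
  pullback.map _ _ _ _ (pullback.snd G.t g) (pullback.snd G.t g) (𝟙 Y)
    ((Category.comp_id _)) ((Category.comp_id _))

@[reassoc (attr := simp)]
lemma MtoU'_fst : MtoU' G g q ≫ pullback.fst q q = pullback.fst _ _ ≫ pullback.snd G.t g :=
  pullback.lift_fst _ _ _

@[reassoc (attr := simp)]
lemma MtoU'_snd : MtoU' G g q ≫ pullback.snd q q = pullback.snd _ _ ≫ pullback.snd G.t g :=
  pullback.lift_snd _ _ _

lemma prop_MtoU (P : MorphismProperty Scheme.{u}) [P.IsStableUnderBaseChange]
    [P.IsStableUnderComposition] (h : P (sV G g)) : P (MtoU G g q p w hp) :=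
  P.pullbackMap h h (sV_comp G g q p w hp).symm (sV_comp G g q p w hp).symm

/-- if a point `f : T ⟶ V ×_Y V` maps to `U' ×_Y U'` through `R'`, then it maps to `U ×_Y U` through `R`. -/
theorem exists_lift_of_lift {T : Scheme.{u}} (f : T ⟶ M G g q) (r' : T ⟶ arrows G g)
    (hr' : r' ≫ pullback.lift (tgt G g) (src G g) wq = f ≫ MtoU' G g q) :
    ∃ r : T ⟶ G.R, r ≫ pullback.lift G.t G.s w = f ≫ MtoU G g q p w hp := by
  have h1 : r' ≫ tgt G g = (f ≫ pullback.fst _ _) ≫ pullback.snd G.t g := by
    have := congr($hr' ≫ pullback.fst _ _)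
    simpa only [Category.assoc, pullback.lift_fst, MtoU'_fst] using this
  have h2 : r' ≫ src G g = (f ≫ pullback.snd _ _) ≫ pullback.snd G.t g := by
    have := congr($hr' ≫ pullback.snd _ _)
    simpa only [Category.assoc, pullback.lift_snd, MtoU'_snd] using this
  generalize hx : f ≫ pullback.fst (pullback.snd G.t g ≫ q) (pullback.snd G.t g ≫ q) = x at h1
  generalize hy : f ≫ pullback.snd (pullback.snd G.t g ≫ q) (pullback.snd G.t g ≫ q) = y at h2
  have h3 : (r' ≫ toR G g) ≫ G.s = (y ≫ pullback.fst G.t g) ≫ G.t := by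
    rw [Category.assoc, toR_s, ← Category.assoc, h2, Category.assoc, ← pullback.condition,
      Category.assoc]
  have h4 : ((x ≫ pullback.fst G.t g) ≫ G.i) ≫ G.s =
      mul G (r' ≫ toR G g) (y ≫ pullback.fst G.t g) h3 ≫ G.t := by
    rw [mul_t, inv_s, Category.assoc r', toR_t, ← Category.assoc r', h1, Category.assoc x _ g,
      ← pullback.condition, Category.assoc]
  refine ⟨mul G ((x ≫ pullback.fst G.t g) ≫ G.i)
    (mul G (r' ≫ toR G g) (y ≫ pullback.fst G.t g) h3) h4, ?_⟩
  generalize hm : mul G ((x ≫ pullback.fst G.t g) ≫ G.i)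
    (mul G (r' ≫ toR G g) (y ≫ pullback.fst G.t g) h3) h4 = m
  have hmt : m ≫ G.t = x ≫ sV G g := by
    rw [← hm, mul_t, inv_t, Category.assoc]
  have hms : m ≫ G.s = y ≫ sV G g := by
    rw [← hm, mul_s, mul_s, Category.assoc]
  apply pullback.hom_ext
  · rw [Category.assoc, Category.assoc, pullback.lift_fst, MtoU_fst, hmt, ← hx, Category.assoc]
  · rw [Category.assoc, Category.assoc, pullback.lift_snd, MtoU_snd, hms, ← hy, Category.assoc]

include hp in
theorem surjective_lift [Surjective (sV G g)]
    [hs : Surjective (pullback.lift (tgt G g) (src G g) wq)] :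
    Surjective (pullback.lift G.t G.s w) := by
  obtain ⟨r, hr⟩ := exists_lift_of_lift G g q wq p w hp
    (pullback.fst (MtoU' G g q) (pullback.lift (tgt G g) (src G g) wq))
    (pullback.snd _ _) pullback.condition.symm
  have h1 : Surjective (MtoU G g q p w hp) := prop_MtoU G g q p w hp @Surjective ‹_›
  have h2 : Surjective (r ≫ pullback.lift G.t G.s w) := by
    rw [hr]; infer_instance
  exact .of_comp r _

include wq w hp in
theorem isPullback [Mono G.j] [Surjective (sV G g)] [Flat (sV G g)] [QuasiCompact (sV G g)]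
    (hsq : IsPullback (tgt G g) (src G g) q q) : IsPullback G.t G.s p p := by
  have hm : Mono (pullback.lift G.t G.s w) := by
    refine ⟨fun a b hab => ?_⟩
    rw [← cancel_mono G.j, comp_j_eq_iff]
    constructor
    · have := congr($hab ≫ pullback.fst _ _)
      simpa only [Category.assoc, pullback.lift_fst] using this
    · have := congr($hab ≫ pullback.snd _ _)
      simpa only [Category.assoc, pullback.lift_snd] using this
  have hi : IsIso (pullback.lift (tgt G g) (src G g) wq) := by
    have : pullback.lift (tgt G g) (src G g) wq = hsq.isoPullback.hom := by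
      apply pullback.hom_ext
      · rw [pullback.lift_fst, IsPullback.isoPullback_hom_fst]
      · rw [pullback.lift_snd, IsPullback.isoPullback_hom_snd]
    rw [this]; infer_instance
  obtain ⟨r, hr⟩ := exists_lift_of_lift G g q wq p w hp (𝟙 _)
    (MtoU' G g q ≫ inv (pullback.lift (tgt G g) (src G g) wq)) (by simp)
  rw [Category.id_comp] at hr
  have h1 : Surjective (MtoU G g q p w hp) := prop_MtoU G g q p w hp @Surjective ‹_›
  have h2 : Flat (MtoU G g q p w hp) := prop_MtoU G g q p w hp @Flat ‹_›
  have h3 : QuasiCompact (MtoU G g q p w hp) := prop_MtoU G g q p w hp @QuasiCompact ‹_›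
  have h4 : StrongEpi (MtoU G g q p w hp) := inferInstance
  have h5 : StrongEpi (pullback.lift G.t G.s w) := by
    rw [← hr] at h4
    exact strongEpi_of_strongEpi r _
  have h6 : IsIso (pullback.lift G.t G.s w) := isIso_of_mono_of_strongEpi _
  exact IsPullback.of_iso_pullback ⟨w⟩ (asIso (pullback.lift G.t G.s w))
    (pullback.lift_fst _ _ _) (pullback.lift_snd _ _ _)

end props

end Groth.Agent.GrpQ.H767.QuasiSection
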