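import Groth.Agent.GrpQ.H767.Main
import Groth.Agent.GrpQ.H765.FinQuot
import Groth.Agent.GrpQ.H766.Consequences

/-!
# Unconditional form of the quasi-section theorem
-/

set_option autoImplicit false
universe u

open CategoryTheory CategoryTheory.Limits AlgebraicGeometry TopologicalSpace

namespace Groth.Agent.GrpQ.H767.Strong

open Groth.Agent.Grpsch.Restrict Groth.Agent.GrpQ.H766.GeomQuotDef Groth.Agent.GrpQ.H767.Main

theorem strongFLF : StrongFLF.{u} := by
  intro S G ha hb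
  obtain ⟨i1, i2, i3⟩ := id ha
  obtain ⟨i4, i5, i6⟩ := Groth.Agent.GrpQ.H765.FinQuot.isFinLocFree_t G ha
  obtain ⟨Y, p, h, hint, -, -, hsurj⟩ := Groth.Agent.GrpQ.H765.FinQuot.exists_isGeomQuot G ha hb
  exact ⟨Y, p, h, hint, hsurj, fun _ =>
    ⟨Groth.Agent.GrpQ.H766.Consequences.isPullback_of_mono h hb,
      Groth.Agent.GrpQ.H766.Consequences.isFinLocFree_of_mono h hb⟩⟩

/-- **Quotients of groupoids with a finite locally free quasi-section**: all properties. -/
theorem exists_concl {S : Scheme.{u}} (G : Grpd.GroupoidScheme S)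
    {U' : Scheme.{u}} (g : U' ⟶ G.U)
    (h1 : Mor2.IsFinLocFree (pullback.fst G.t g ≫ G.s)) [Surjective (pullback.fst G.t g ≫ G.s)]
    (h2 : ∀ E : Set U', (∀ x ∈ E, ∀ y ∈ E, ∃ r : G.R, G.t r = g x ∧ G.s r = g y) →
      ∃ W : U'.Opens, IsAffineOpen W ∧ E ⊆ (W : Set U')) :
    ∃ (Y : Scheme.{u}) (p : G.U ⟶ Y), Concl G g p :=
  Main.exists_concl strongFLF G g h1 h2

end Groth.Agent.GrpQ.H767.Strong
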